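import Groth.Prelude.Def_DiffOp
import Mathlib.RingTheory.Kaehler.Basic
import Mathlib.Algebra.BigOperators.Group.Finset.Powerset
import Mathlib.Data.Fintype.Powerset
import Mathlib.RingTheory.Adjoin.Basic

/-! Basic lemmas on differential operators of finite order between modules. -/

set_option autoImplicit false
set_option linter.unusedSectionVars false

universe u v

namespace Groth.Agent.Lib.DiffOp.Basic

open Diff16
open scoped TensorProduct

variable {A B : Type u} [CommRing A] [CommRing B] [Algebra A B]
variable {M N P : Type v} [AddCommGroup M] [Module A M] [Module B M] [IsScalarTower A B M]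
  [AddCommGroup N] [Module A N] [Module B N] [IsScalarTower A B N]
  [AddCommGroup P] [Module A P] [Module B P] [IsScalarTower A B P]

theorem commutator_apply (D : M →ₗ[A] N) (b : B) (m : M) :
    commutator A B M N D b m = D (b • m) - b • D m := rfl

theorem commutator_add (D E : M →ₗ[A] N) (b : B) :
    commutator A B M N (D + E) b = commutator A B M N D b + commutator A B M N E b := by
  ext m
  simp only [commutator_apply, LinearMap.add_apply, smul_add]
  abel

theorem commutator_zero (b : B) : commutator A B M N (0 : M →ₗ[A] N) b = 0 := by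
  ext m
  simp [commutator_apply]

theorem commutator_smul (D : M →ₗ[A] N) (c b : B) :
    commutator A B M N (c • D) b = c • commutator A B M N D b := by
  ext m
  simp [commutator_apply, smul_sub, smul_comm b c]

theorem commutator_comp_restrictScalars (D : M →ₗ[A] N) (f : P →ₗ[B] M) (b : B) :
    commutator A B P N (D ∘ₗ f.restrictScalars A) b =
      commutator A B M N D b ∘ₗ f.restrictScalars A := by
  ext m
  simp [commutator_apply]

theorem commutator_restrictScalars_comp (D : M →ₗ[A] N) (g : N →ₗ[B] P) (b : B) :
    commutator A B M P (g.restrictScalars A ∘ₗ D) b =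
      g.restrictScalars A ∘ₗ commutator A B M N D b := by
  ext m
  simp [commutator_apply]

theorem commutator_comp (D : M →ₗ[A] N) (E : N →ₗ[A] P) (b : B) :
    commutator A B M P (E ∘ₗ D) b =
      commutator A B N P E b ∘ₗ D + E ∘ₗ commutator A B M N D b := by
  ext m
  simp only [commutator_apply, LinearMap.comp_apply, LinearMap.add_apply, map_sub]
  abel

theorem zero_mem (n : ℕ) : IsDiffOpLE A B M N n 0 := by
  induction n with
  | zero => intro b m; simp
  | succ n ih => intro b; rw [commutator_zero]; exact ih

theorem add {n : ℕ} {D E : M →ₗ[A] N} (hD : IsDiffOpLE A B M N n D)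
    (hE : IsDiffOpLE A B M N n E) : IsDiffOpLE A B M N n (D + E) := by
  induction n generalizing D E with
  | zero => intro b m; simp [hD b m, hE b m, smul_add]
  | succ n ih => intro b; rw [commutator_add]; exact ih (hD b) (hE b)

theorem smul {n : ℕ} {D : M →ₗ[A] N} (c : B) (hD : IsDiffOpLE A B M N n D) :
    IsDiffOpLE A B M N n (c • D) := by
  induction n generalizing D with
  | zero => intro b m; simp [hD b m, smul_comm b c]
  | succ n ih => intro b; rw [commutator_smul]; exact ih (hD b)

theorem zero_iff {D : M →ₗ[A] N} :
    IsDiffOpLE A B M N 0 D ↔ ∀ b : B, commutator A B M N D b = 0 := by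
  constructor
  · intro h b; ext m; simp [commutator_apply, h b m]
  · intro h b m
    exact sub_eq_zero.1 (LinearMap.congr_fun (h b) m)

theorem of_linearMap (f : M →ₗ[B] N) : IsDiffOpLE A B M N 0 (f.restrictScalars A) :=
  fun b m => f.map_smul b m

/-- The `B`-linear map underlying an operator of order zero. -/
def toLinear {D : M →ₗ[A] N} (h : IsDiffOpLE A B M N 0 D) : M →ₗ[B] N :=
  { toFun := D, map_add' := D.map_add, map_smul' := h }

theorem toLinear_restrictScalars {D : M →ₗ[A] N} (h : IsDiffOpLE A B M N 0 D) :
    (toLinear h).restrictScalars A = D := rfl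

theorem succ {n : ℕ} {D : M →ₗ[A] N} (hD : IsDiffOpLE A B M N n D) :
    IsDiffOpLE A B M N (n + 1) D := by
  induction n generalizing D with
  | zero =>
      intro b
      rw [zero_iff.1 hD b]
      exact zero_mem 0
  | succ n ih => intro b; exact ih (hD b)

theorem mono {n m : ℕ} (h : n ≤ m) {D : M →ₗ[A] N} (hD : IsDiffOpLE A B M N n D) :
    IsDiffOpLE A B M N m D := by
  induction h with
  | refl => exact hD
  | step _ ih => exact succ ih

theorem precomp {n : ℕ} {D : M →ₗ[A] N} (f : P →ₗ[B] M) (hD : IsDiffOpLE A B M N n D) :
    IsDiffOpLE A B P N n (D ∘ₗ f.restrictScalars A) := by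
  induction n generalizing D with
  | zero => intro b m; simp [hD b (f m)]
  | succ n ih => intro b; rw [commutator_comp_restrictScalars]; exact ih (hD b)

theorem postcomp {n : ℕ} {D : M →ₗ[A] N} (g : N →ₗ[B] P) (hD : IsDiffOpLE A B M N n D) :
    IsDiffOpLE A B M P n (g.restrictScalars A ∘ₗ D) := by
  induction n generalizing D with
  | zero => intro b m; simp [hD b m]
  | succ n ih => intro b; rw [commutator_restrictScalars_comp]; exact ih (hD b)

theorem comp {n n' : ℕ} {D : M →ₗ[A] N} {E : N →ₗ[A] P} (hD : IsDiffOpLE A B M N n D)
    (hE : IsDiffOpLE A B N P n' E) : IsDiffOpLE A B M P (n + n') (E ∘ₗ D) := by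
  induction n generalizing n' D E with
  | zero =>
      rw [Nat.zero_add, ← toLinear_restrictScalars hD]
      exact precomp _ hE
  | succ n ih =>
      induction n' generalizing D E with
      | zero =>
          rw [Nat.add_zero, ← toLinear_restrictScalars hE]
          exact postcomp _ hD
      | succ n' ih' =>
          intro b
          rw [commutator_comp]
          apply add
          · exact ih' hD (hE b)
          · have := ih (hD b) hE
            have e : n + 1 + n' = n + (n' + 1) := by omega
            change IsDiffOpLE A B M P (n + 1 + n') _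
            rw [e]
            exact this

theorem commutator_algebraMap (D : M →ₗ[A] N) (a : A) :
    commutator A B M N D (algebraMap A B a) = 0 := by
  ext m
  simp [commutator_apply, algebraMap_smul]

theorem commutator_add_scalar (D : M →ₗ[A] N) (b c : B) :
    commutator A B M N D (b + c) = commutator A B M N D b + commutator A B M N D c := by
  ext m
  simp only [commutator_apply, LinearMap.add_apply, add_smul, map_add]
  abel

theorem commutator_mul_scalar (D : M →ₗ[A] N) (b c : B) :
    commutator A B M N D (b * c) =
      commutator A B M N D b ∘ₗ ((LinearMap.lsmul B M c).restrictScalars A) +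
        b • commutator A B M N D c := by
  ext m
  simp [commutator_apply, mul_smul, smul_sub]

/-- The elements `b` with `[D, b]` of order at most `n` form a subalgebra. -/
theorem of_generators {s : Set B} (hs : Algebra.adjoin A s = ⊤) {n : ℕ} {D : M →ₗ[A] N}
    (hD : ∀ g ∈ s, IsDiffOpLE A B M N n (commutator A B M N D g)) :
    IsDiffOpLE A B M N (n + 1) D := by
  intro b
  have hb : b ∈ Algebra.adjoin A s := hs ▸ Algebra.mem_top
  induction hb using Algebra.adjoin_induction with
  | mem x hx => exact hD x hx
  | algebraMap a => rw [commutator_algebraMap]; exact zero_mem n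
  | add x y _ _ hx hy => rw [commutator_add_scalar]; exact add hx hy
  | mul x y _ _ hx hy =>
      rw [commutator_mul_scalar]
      exact add (precomp _ hx) (smul x hy)

section Alt

variable {ι : Type*} [DecidableEq ι]

/-- The alternating sum attached to a finite family of scalars. -/
noncomputable def alt (D : M →ₗ[A] N) (s : Finset ι) (b : ι → B) (t : M) : N :=
  ∑ H ∈ s.powerset, ((-1 : ℤ) ^ H.card) • ((∏ i ∈ H, b i) • D ((∏ i ∈ s \ H, b i) • t))

theorem alt_empty (D : M →ₗ[A] N) (b : ι → B) (t : M) :
    alt D (∅ : Finset ι) b t = D t := by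
  simp [alt]

theorem alt_insert (D : M →ₗ[A] N) {s : Finset ι} {a : ι} (ha : a ∉ s) (b : ι → B) (t : M) :
    alt D (insert a s) b t = alt (commutator A B M N D (b a)) s b t := by
  simp only [alt]
  rw [Finset.sum_powerset_insert ha, ← Finset.sum_add_distrib]
  refine Finset.sum_congr rfl fun H hH => ?_
  have hHs := Finset.mem_powerset.1 hH
  have haH : a ∉ H := fun h => ha (hHs h)
  rw [Finset.insert_sdiff_of_notMem _ haH, Finset.prod_insert (by simp [ha]),
    Finset.prod_insert haH, Finset.card_insert_of_notMem haH, pow_succ]
  rw [show insert a s \ insert a H = s \ H by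
    ext i; by_cases hi : i = a <;> simp [hi, ha]]
  simp only [commutator_apply, smul_sub, mul_smul, mul_neg, mul_one, neg_smul]
  rw [smul_comm (∏ i ∈ H, b i) (b a)]
  abel

theorem alt_eq_zero {n : ℕ} {D : M →ₗ[A] N} (hD : IsDiffOpLE A B M N n D) {s : Finset ι}
    (hs : s.card = n + 1) (b : ι → B) (t : M) : alt D s b t = 0 := by
  induction n generalizing D s with
  | zero =>
      obtain ⟨a, rfl⟩ := Finset.card_eq_one.1 hs
      rw [show ({a} : Finset ι) = insert a ∅ by simp, alt_insert D (Finset.notMem_empty a),
        alt_empty, zero_iff.1 hD (b a)]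
      rfl
  | succ n ih =>
      obtain ⟨a, u, hau, rfl, hu⟩ := Finset.card_eq_succ.1 hs
      rw [alt_insert D hau]
      exact ih (hD (b a)) hu

theorem alt_map {κ : Type*} [DecidableEq κ] (D : M →ₗ[A] N) (s : Finset κ) (e : κ ↪ ι)
    (b : ι → B) (t : M) : alt D (s.map e) b t = alt D s (b ∘ e) t := by
  induction s using Finset.induction_on generalizing D with
  | empty => simp [alt_empty]
  | insert a s ha ih =>
      rw [Finset.map_insert, alt_insert D (by simpa using ha), alt_insert D ha, ih]
      rfl

theorem alt_fin_succ (D : M →ₗ[A] N) (k : ℕ) (b0 : B) (b : Fin k → B) (t : M) :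
    alt D (Finset.univ : Finset (Fin (k + 1))) (Fin.cons b0 b) t =
      alt (commutator A B M N D b0) Finset.univ b t := by
  rw [Fin.univ_succ, Finset.cons_eq_insert, alt_insert D (by simp [Fin.succ_ne_zero]), alt_map]
  rfl

theorem of_alt {n : ℕ} {D : M →ₗ[A] N}
    (h : ∀ (b : Fin (n + 1) → B) (t : M), alt D Finset.univ b t = 0) :
    IsDiffOpLE A B M N n D := by
  induction n generalizing D with
  | zero =>
      rw [zero_iff]
      intro b0
      ext t
      have := h (Fin.cons b0 Fin.elim0) t
      rw [alt_fin_succ, show (Finset.univ : Finset (Fin 0)) = ∅ from rfl, alt_empty] at this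
      exact this
  | succ n ih =>
      intro b0
      apply ih
      intro b t
      rw [← alt_fin_succ]
      exact h _ t

end Alt

theorem linearize_tmul (D : M →ₗ[A] N) (b : B) (m : M) :
    linearize A B M N D (b ⊗ₜ m) = b • D m := rfl

theorem linearize_zero (x : B ⊗[A] M) : linearize A B M N (0 : M →ₗ[A] N) x = 0 := by
  induction x using TensorProduct.induction_on with
  | zero => simp
  | tmul b m => simp [linearize_tmul]
  | add x y hx hy => simp [map_add, hx, hy]

section Linearize

variable {N' : Type u} [AddCommGroup N'] [Module A N'] [Module B N'] [IsScalarTower A B N']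

theorem linearize_gen_mul (D : B →ₗ[A] N') (b : B) (x : B ⊗[A] B) :
    linearize A B B N' D (((1 : B) ⊗ₜ[A] b - b ⊗ₜ[A] (1 : B)) * x) =
      linearize A B B N' (commutator A B B N' D b) x := by
  induction x using TensorProduct.induction_on with
  | zero => simp
  | tmul c m =>
      simp [sub_mul, Algebra.TensorProduct.tmul_mul_tmul, linearize_tmul, commutator_apply,
        smul_sub, mul_smul, smul_comm b c]
  | add x y hx hy => simp [mul_add, map_add, hx, hy]

theorem linearize_vanish {n : ℕ} {D : B →ₗ[A] N'} (hD : IsDiffOpLE A B B N' n D) :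
    ∀ x ∈ (KaehlerDifferential.ideal A B) ^ (n + 1), linearize A B B N' D x = 0 := by
  have key : ∀ (n : ℕ) (D : B →ₗ[A] N'),
      (∀ b, ∀ x ∈ (KaehlerDifferential.ideal A B) ^ n,
        linearize A B B N' (commutator A B B N' D b) x = 0) →
      ∀ x ∈ (KaehlerDifferential.ideal A B) ^ (n + 1), linearize A B B N' D x = 0 := by
    intro n D h x hx
    rw [pow_succ] at hx
    refine Submodule.mul_induction_on hx (fun r hr s hs => ?_) (fun a b ha hb => by
      rw [map_add, ha, hb, add_zero])
    rw [← KaehlerDifferential.span_range_eq_ideal] at hs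
    induction hs using Submodule.span_induction generalizing r with
    | mem g hg =>
        obtain ⟨b, rfl⟩ := hg
        rw [mul_comm, linearize_gen_mul]
        exact h b r hr
    | zero => simp
    | add g g' _ _ hg hg' => rw [mul_add, map_add, hg r hr, hg' r hr, add_zero]
    | smul c g _ hg =>
        rw [smul_eq_mul, ← mul_assoc]
        exact hg (r * c) (Ideal.mul_mem_right _ _ hr)
  induction n generalizing D with
  | zero =>
      refine key 0 D fun b x _ => ?_
      rw [zero_iff.1 hD b, linearize_zero]
  | succ n ih => exact key (n + 1) D fun b => ih (hD b)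

theorem of_linearize_vanish {n : ℕ} {D : B →ₗ[A] N'}
    (h : ∀ x ∈ (KaehlerDifferential.ideal A B) ^ (n + 1), linearize A B B N' D x = 0) :
    IsDiffOpLE A B B N' n D := by
  induction n generalizing D with
  | zero =>
      rw [zero_iff]
      intro b
      refine LinearMap.ext fun m => ?_
      have := h _ (by
        rw [pow_one]
        exact Ideal.mul_mem_right ((1 : B) ⊗ₜ[A] m) _
          (KaehlerDifferential.one_smul_sub_smul_one_mem_ideal A b))
      rw [linearize_gen_mul, linearize_tmul, one_smul] at this
      exact this
  | succ n ih =>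
      intro b
      apply ih
      intro x hx
      rw [← linearize_gen_mul]
      refine h _ ?_
      rw [pow_succ' (KaehlerDifferential.ideal A B) (n + 1)]
      exact Ideal.mul_mem_mul (KaehlerDifferential.one_smul_sub_smul_one_mem_ideal A b) hx

end Linearize

end Groth.Agent.Lib.DiffOp.Basic
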