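import Groth.Agent.Lib.DiffOp.Basic
import Mathlib.RingTheory.MvPolynomial.Ideal
import Mathlib.RingTheory.Smooth.Basic
import Mathlib.RingTheory.OrzechProperty
import Mathlib.LinearAlgebra.Basis.Basic

/-! Differential operators attached to coordinates on a formally smooth algebra. -/

set_option autoImplicit false
set_option linter.unusedSectionVars false

universe u

namespace Groth.Agent.Lib.DiffOp.Coordinates

open MvPolynomial
open scoped TensorProduct

variable {A B : Type u} [CommRing A] [CommRing B] [Algebra A B] {n : ℕ} {z : Fin n → B}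

/-- The element `1 ⊗ zᵢ - zᵢ ⊗ 1`. -/
noncomputable def xi (A : Type u) {B : Type u} [CommRing A] [CommRing B] [Algebra A B] {n : ℕ}
    (z : Fin n → B) (i : Fin n) : B ⊗[A] B :=
  (1 : B) ⊗ₜ[A] z i - z i ⊗ₜ[A] (1 : B)

theorem xi_mem (i : Fin n) : xi A z i ∈ KaehlerDifferential.ideal A B :=
  KaehlerDifferential.one_smul_sub_smul_one_mem_ideal A (z i)

theorem sub_mul_one_mem (t : B ⊗[A] B) :
    t - Algebra.TensorProduct.lmul' A t ⊗ₜ[A] (1 : B) ∈ KaehlerDifferential.ideal A B := by
  rw [KaehlerDifferential.ideal, RingHom.mem_ker, map_sub, Algebra.TensorProduct.lmul'_apply_tmul,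
    mul_one, sub_self]

variable (hspan : Submodule.span B (Set.range fun i => KaehlerDifferential.D A B (z i)) = ⊤)
include hspan

theorem ideal_step {x : B ⊗[A] B} (hx : x ∈ KaehlerDifferential.ideal A B) :
    ∃ p : MvPolynomial (Fin n) B, x - aeval (xi A z) p ∈ KaehlerDifferential.ideal A B ^ 2 := by
  have hD : KaehlerDifferential.fromIdeal A B ⟨x, hx⟩ ∈
      Submodule.span B (Set.range fun i => KaehlerDifferential.D A B (z i)) :=
    hspan.symm ▸ Submodule.mem_top
  obtain ⟨c, hc⟩ := (Submodule.mem_span_range_iff_exists_fun B).1 hD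
  refine ⟨∑ i, C (c i) * X i, ?_⟩
  have : KaehlerDifferential.fromIdeal A B ⟨x, hx⟩ = KaehlerDifferential.fromIdeal A B
      (∑ i, c i • (⟨xi A z i, xi_mem i⟩ : KaehlerDifferential.ideal A B)) := by
    rw [← hc, map_sum]
    refine Finset.sum_congr rfl fun i _ => ?_
    rw [LinearMap.map_smul_of_tower]
    rfl
  change (KaehlerDifferential.ideal A B).toCotangent _ =
    (KaehlerDifferential.ideal A B).toCotangent _ at this
  rw [Ideal.toCotangent_eq] at this
  convert this using 2
  rw [map_sum, AddSubmonoidClass.coe_finsetSum]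
  refine Finset.sum_congr rfl fun i _ => ?_
  rw [map_mul, aeval_C, aeval_X, ← Algebra.smul_def]
  rfl

theorem pow_step (j : ℕ) : ∀ x ∈ KaehlerDifferential.ideal A B ^ j,
    ∃ p : MvPolynomial (Fin n) B,
      x - aeval (xi A z) p ∈ KaehlerDifferential.ideal A B ^ (j + 1) := by
  induction j with
  | zero =>
      intro x _
      refine ⟨C (Algebra.TensorProduct.lmul' A x), ?_⟩
      rw [pow_one, aeval_C]
      exact sub_mul_one_mem x
  | succ j ih =>
      intro x hx
      rw [pow_succ] at hx
      induction hx using Submodule.mul_induction_on' with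
      | mem_mul_mem r hr s hs =>
          obtain ⟨p, hp⟩ := ih r hr
          obtain ⟨q, hq⟩ := ideal_step hspan hs
          refine ⟨p * q, ?_⟩
          have hp' : aeval (xi A z) p ∈ KaehlerDifferential.ideal A B ^ j := by
            rw [← sub_sub_cancel r (aeval (xi A z) p)]
            exact Ideal.sub_mem _ hr (Ideal.pow_le_pow_right (Nat.le_succ j) hp)
          rw [map_mul, show r * s - aeval (xi A z) p * aeval (xi A z) q =
            (r - aeval (xi A z) p) * s + aeval (xi A z) p * (s - aeval (xi A z) q) by ring]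
          refine Ideal.add_mem _ ?_ ?_
          · rw [pow_succ]
            exact Ideal.mul_mem_mul hp hs
          · rw [show j + 1 + 1 = j + 2 from rfl, pow_add]
            exact Ideal.mul_mem_mul hp' hq
      | add a _ b _ ha hb =>
          obtain ⟨p, hp⟩ := ha
          obtain ⟨q, hq⟩ := hb
          exact ⟨p + q, by rw [map_add, add_sub_add_comm]; exact Ideal.add_mem _ hp hq⟩

theorem exists_poly (k : ℕ) (x : B ⊗[A] B) :
    ∃ p : MvPolynomial (Fin n) B, x - aeval (xi A z) p ∈ KaehlerDifferential.ideal A B ^ k := by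
  induction k with
  | zero => exact ⟨0, by simp⟩
  | succ k ih =>
      obtain ⟨p, hp⟩ := ih
      obtain ⟨q, hq⟩ := pow_step hspan k _ hp
      exact ⟨p + q, by rwa [map_add, ← sub_sub]⟩

/-- An operator of finite order vanishing on all monomials in the coordinates vanishes. -/
theorem eq_zero_of_monomials {k : ℕ} {D : B →ₗ[A] B} (hD : Diff16.IsDiffOpLE A B B B k D)
    (h : ∀ q : Fin n → ℕ, D (∏ i, z i ^ q i) = 0) : D = 0 := by
  let L : B ⊗[A] B →ₗ[A] B := Diff16.linearize A B B B D
  have hL : ∀ (c : B) (x : B ⊗[A] B), L ((c ⊗ₜ[A] (1 : B)) * x) = c * L x := by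
    intro c x
    induction x using TensorProduct.induction_on with
    | zero => simp
    | tmul a b =>
        simp only [L, Algebra.TensorProduct.tmul_mul_tmul, one_mul, Basic.linearize_tmul, smul_eq_mul,
          mul_assoc]
    | add a b ha hb => rw [mul_add, map_add, ha, hb, map_add, mul_add]
  have hpoly : ∀ (p : MvPolynomial (Fin n) B) (q : Fin n → ℕ),
      L (aeval (xi A z) p * (1 : B) ⊗ₜ[A] ∏ i, z i ^ q i) = 0 := by
    intro p
    induction p using MvPolynomial.induction_on with
    | C c =>
        intro q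
        rw [aeval_C]
        refine (hL c _).trans ?_
        simp [L, Basic.linearize_tmul, h]
    | add a b ha hb => intro q; rw [map_add, add_mul, map_add, ha, hb, add_zero]
    | mul_X p j hp =>
        intro q
        classical
        rw [map_mul (aeval (xi A z)), aeval_X, mul_assoc, xi, sub_mul, mul_sub, map_sub]
        have h1 : ((1 : B) ⊗ₜ[A] z j) * ((1 : B) ⊗ₜ[A] ∏ i, z i ^ q i) =
            (1 : B) ⊗ₜ[A] ∏ i, z i ^ (Function.update q j (q j + 1)) i := by
          rw [Algebra.TensorProduct.tmul_mul_tmul, one_mul,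
            ← Finset.mul_prod_erase Finset.univ (fun i => z i ^ q i) (Finset.mem_univ j),
            ← Finset.mul_prod_erase Finset.univ (fun i => z i ^ (Function.update q j (q j + 1)) i)
              (Finset.mem_univ j), Function.update_self, ← mul_assoc, ← pow_succ']
          congr 2
          refine Finset.prod_congr rfl fun i hi => ?_
          rw [Function.update_of_ne (Finset.ne_of_mem_erase hi)]
        rw [h1, hp, mul_left_comm, hL, hp, mul_zero, sub_zero]
  refine LinearMap.ext fun b => ?_
  obtain ⟨p, hp⟩ := exists_poly hspan (k + 1) ((1 : B) ⊗ₜ[A] b)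
  have h1 := Basic.linearize_vanish hD _ hp
  have h2 : L (aeval (xi A z) p) = 0 := by
    simpa [← Algebra.TensorProduct.one_def] using hpoly p (fun _ => 0)
  rw [map_sub, Basic.linearize_tmul, one_smul] at h1
  change D b - L (aeval (xi A z) p) = 0 at h1
  rwa [h2, sub_zero] at h1

theorem ext_of_monomials {k : ℕ} {D E : B →ₗ[A] B} (hD : Diff16.IsDiffOpLE A B B B k D)
    (hE : Diff16.IsDiffOpLE A B B B k E)
    (h : ∀ q : Fin n → ℕ, D (∏ i, z i ^ q i) = E (∏ i, z i ^ q i)) : D = E := by
  refine sub_eq_zero.1 (eq_zero_of_monomials hspan (k := k) ?_ fun q => by simp [h q])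
  rw [sub_eq_add_neg, ← neg_one_smul B E]
  exact Basic.add hD (Basic.smul _ hE)

omit hspan

theorem span_eq_top_of_basis (b : Module.Basis (Fin n) B (KaehlerDifferential A B))
    (hb : ∀ i, b i = KaehlerDifferential.D A B (z i)) :
    Submodule.span B (Set.range fun i => KaehlerDifferential.D A B (z i)) = ⊤ := by
  rw [← b.span_eq]
  congr 2
  exact funext fun i => (hb i).symm

/-- Substituting `G i` for `X i`, with `G i ≡ X i` modulo squares, is congruent to the identity
on the graded pieces. -/
theorem aeval_sub_mem {G : Fin n → MvPolynomial (Fin n) B}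
    (hG : ∀ i, G i - X i ∈ idealOfVars (Fin n) B ^ 2) (j : ℕ) :
    ∀ p ∈ idealOfVars (Fin n) B ^ j, aeval G p - p ∈ idealOfVars (Fin n) B ^ (j + 1) := by
  induction j with
  | zero =>
      intro p hp'
      clear hp'
      rw [pow_one]
      induction p using MvPolynomial.induction_on with
      | C c => simp
      | add a b ha hb => rw [map_add, add_sub_add_comm]; exact Ideal.add_mem _ ha hb
      | mul_X p i hp =>
          rw [map_mul, aeval_X, show aeval G p * G i - p * X i =
            aeval G p * (G i - X i) + (aeval G p - p) * X i by ring]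
          exact Ideal.add_mem _ (Ideal.mul_mem_left _ _ (Ideal.pow_le_self two_ne_zero (hG i)))
            (Ideal.mul_mem_right _ _ hp)
  | succ j ih =>
      intro p hp
      rw [pow_succ] at hp
      induction hp using Submodule.mul_induction_on' with
      | mem_mul_mem r hr s hs =>
          induction hs using Submodule.span_induction generalizing r with
          | mem g hg =>
              obtain ⟨i, rfl⟩ := hg
              rw [map_mul, aeval_X, show aeval G r * G i - r * X i =
                (aeval G r - r) * G i + r * (G i - X i) by ring]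
              refine Ideal.add_mem _ ?_ ?_
              · rw [pow_succ]
                refine Ideal.mul_mem_mul (ih r hr) ?_
                rw [← sub_add_cancel (G i) (X i)]
                exact Ideal.add_mem _ (Ideal.pow_le_self two_ne_zero (hG i))
                  (Ideal.subset_span ⟨i, rfl⟩)
              · rw [show j + 1 + 1 = j + 2 from rfl, pow_add]
                exact Ideal.mul_mem_mul hr (hG i)
          | zero => simp
          | add a b _ _ ha hb =>
              rw [mul_add, map_add, add_sub_add_comm]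
              exact Ideal.add_mem _ (ha r hr) (hb r hr)
          | smul c g _ hg =>
              rw [smul_eq_mul, ← mul_assoc]
              exact hg (r * c) (Ideal.mul_mem_right _ _ hr)
      | add a _ b _ ha hb => rw [map_add, add_sub_add_comm]; exact Ideal.add_mem _ ha hb

theorem finite_trunc (N : ℕ) :
    Module.Finite B (MvPolynomial (Fin n) B ⧸ idealOfVars (Fin n) B ^ N) := by
  classical
  let s : Set (Fin n →₀ ℕ) := {d | ∀ i, d i ≤ N}
  have hs : s.Finite := by
    refine Set.Finite.of_finite_image (f := fun d : Fin n →₀ ℕ => (d : Fin n → ℕ)) ?_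
      DFunLike.coe_injective.injOn
    exact (Set.Finite.pi' fun _ => Set.finite_Iic N).subset (by
      rintro _ ⟨d, hd, rfl⟩ i; exact hd i)
  refine ⟨⟨hs.toFinset.image (fun d => Ideal.Quotient.mk _ (monomial d (1 : B))),
    top_le_iff.1 fun x _ => ?_⟩⟩
  obtain ⟨p, rfl⟩ := Ideal.Quotient.mk_surjective x
  rw [p.as_sum, map_sum]
  refine Submodule.sum_mem _ fun d _ => ?_
  by_cases hd : d ∈ s
  · have : monomial d (coeff d p) = coeff d p • monomial d (1 : B) := by
      rw [smul_monomial, smul_eq_mul, mul_one]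
    rw [this, ← Ideal.Quotient.mkₐ_eq_mk B, map_smul]
    exact Submodule.smul_mem _ _ (Submodule.subset_span (Finset.mem_coe.2
      (Finset.mem_image.2 ⟨d, hs.mem_toFinset.2 hd, rfl⟩)))
  · have hmem : monomial d (coeff d p) ∈ idealOfVars (Fin n) B ^ N := by
      obtain ⟨i, hi⟩ : ∃ i, N < d i := by simpa [s] using hd
      rw [mem_pow_idealOfVars_iff]
      intro x hx
      rw [Finset.mem_singleton.1 (support_monomial_subset hx)]
      exact le_trans hi.le (Finsupp.le_degree i d)
    rw [Ideal.Quotient.eq_zero_iff_mem.2 hmem]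
    exact Submodule.zero_mem _

theorem aeval_xi_mem {k : ℕ} {p : MvPolynomial (Fin n) B} (hp : p ∈ idealOfVars (Fin n) B ^ k) :
    aeval (xi A z) p ∈ KaehlerDifferential.ideal A B ^ k := by
  have hle : (idealOfVars (Fin n) B).map (aeval (xi A z)) ≤ KaehlerDifferential.ideal A B := by
    rw [Ideal.map_span, Ideal.span_le]
    rintro _ ⟨_, ⟨i, rfl⟩, rfl⟩
    rw [aeval_X]
    exact xi_mem i
  have := Ideal.mem_map_of_mem (aeval (xi A z) : MvPolynomial (Fin n) B →ₐ[B] B ⊗[A] B) hp
  rw [Ideal.map_pow] at this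
  exact Ideal.pow_right_mono hle k this

variable [Algebra.FormallySmooth A B]

/-- The powers of the coordinates are independent in the principal parts. -/
theorem mem_of_aeval_mem_of_two_le (b : Module.Basis (Fin n) B (KaehlerDifferential A B))
    (hb : ∀ i, b i = KaehlerDifferential.D A B (z i)) {N : ℕ} (hN : 2 ≤ N)
    {p : MvPolynomial (Fin n) B} (hp : aeval (xi A z) p ∈ KaehlerDifferential.ideal A B ^ N) :
    p ∈ idealOfVars (Fin n) B ^ N := by
  classical
  set M := idealOfVars (Fin n) B with hM
  let P := MvPolynomial (Fin n) B ⧸ M ^ N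
  let P₂ := MvPolynomial (Fin n) B ⧸ M ^ 2
  let r : B →ₗ[A] MvPolynomial (Fin n) B :=
    (IsScalarTower.toAlgHom A B (MvPolynomial (Fin n) B)).toLinearMap +
      ∑ i, (LinearMap.toSpanSingleton B (MvPolynomial (Fin n) B) (X i)).restrictScalars A ∘ₗ
        (b.coord i).restrictScalars A ∘ₗ (KaehlerDifferential.D A B).toLinearMap
  have hr : ∀ c, r c = C c + ∑ i, C (b.coord i (KaehlerDifferential.D A B c)) * X i := fun c => by
    simp only [r, LinearMap.add_apply, LinearMap.coe_sum, Finset.sum_apply, LinearMap.comp_apply,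
      LinearMap.restrictScalars_apply, LinearMap.toSpanSingleton_apply, MvPolynomial.smul_eq_C_mul]
    rfl
  let τ : B →ₐ[A] P₂ := AlgHom.ofLinearMap ((Ideal.Quotient.mkₐ A (M ^ 2)).toLinearMap ∘ₗ r)
    (by
      change Ideal.Quotient.mk _ (r 1) = 1
      rw [hr]
      simp)
    (by
      intro c e
      change Ideal.Quotient.mk _ (r (c * e)) = Ideal.Quotient.mk _ (r c) * Ideal.Quotient.mk _ (r e)
      rw [← map_mul, Ideal.Quotient.eq, hr, hr, hr]
      set Sc := ∑ i, C (b.coord i (KaehlerDifferential.D A B c)) * X i with hSc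
      set Se := ∑ i, C (b.coord i (KaehlerDifferential.D A B e)) * X i with hSe
      have hmem : ∀ f : Fin n → B, (∑ i, C (f i) * X i : MvPolynomial (Fin n) B) ∈ M := fun f =>
        Ideal.sum_mem _ fun i _ => Ideal.mul_mem_left _ _ (Ideal.subset_span ⟨i, rfl⟩)
      have hsum : (∑ i, C (b.coord i (KaehlerDifferential.D A B (c * e))) * X i :
          MvPolynomial (Fin n) B) = C c * Se + C e * Sc := by
        rw [hSe, hSc, Finset.mul_sum, Finset.mul_sum, ← Finset.sum_add_distrib]
        refine Finset.sum_congr rfl fun i _ => ?_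
        rw [Derivation.leibniz, map_add, map_smul, map_smul, smul_eq_mul, smul_eq_mul, map_add,
          map_mul, map_mul]
        ring
      rw [hsum, map_mul, show C c * C e + (C c * Se + C e * Sc) - (C c + Sc) * (C e + Se) =
        -(Sc * Se) by ring, neg_mem_iff, pow_two]
      exact Ideal.mul_mem_mul (hmem _) (hmem _))
  let g : P →ₐ[A] P₂ := Ideal.Quotient.factorₐ A (Ideal.pow_le_pow_right hN : M ^ N ≤ M ^ 2)
  have hg : Function.Surjective g := Ideal.Quotient.factor_surjective (Ideal.pow_le_pow_right hN : M ^ N ≤ M ^ 2)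
  have hnil : IsNilpotent (RingHom.ker g.toRingHom) := by
    refine ⟨N, ?_⟩
    have : RingHom.ker g.toRingHom ≤ (M ^ 2).map (Ideal.Quotient.mk (M ^ N)) := fun x hx => by
      obtain ⟨y, rfl⟩ := Ideal.Quotient.mk_surjective x
      exact Ideal.mem_map_of_mem _ (Ideal.Quotient.eq_zero_iff_mem.1 hx)
    rw [Ideal.zero_eq_bot, eq_bot_iff]
    refine (Ideal.pow_right_mono this N).trans ?_
    rw [← Ideal.map_pow, ← pow_mul, Ideal.map_le_iff_le_comap, ← RingHom.ker_eq_comap_bot,
      Ideal.mk_ker]
    exact Ideal.pow_le_pow_right (by omega)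
  let σ : B →ₐ[A] P := Algebra.FormallySmooth.liftOfSurjective τ g hg hnil
  have hσ : ∀ c, g (σ c) = τ c := fun c =>
    Algebra.FormallySmooth.liftOfSurjective_apply τ g hg hnil c
  let Ψ : B ⊗[A] B →ₐ[A] P :=
    Algebra.TensorProduct.lift (IsScalarTower.toAlgHom A B P) σ (fun _ _ => Commute.all _ _)
  have hΨ : ∀ c e, Ψ (c ⊗ₜ e) = algebraMap B P c * σ e := fun c e =>
    Algebra.TensorProduct.lift_tmul _ _ _ c e
  have hdiff : ∀ c, ∃ G, Ψ ((1 : B) ⊗ₜ c - c ⊗ₜ (1 : B)) = Ideal.Quotient.mk _ G ∧
      G - (∑ i, C (b.coord i (KaehlerDifferential.D A B c)) * X i) ∈ M ^ 2 := fun c => by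
    obtain ⟨w, hw⟩ := Ideal.Quotient.mk_surjective (σ c)
    refine ⟨w - C c, ?_, ?_⟩
    · rw [map_sub, hΨ, hΨ, map_one, map_one, one_mul, mul_one, ← hw, map_sub]
      rfl
    · have h2 := hσ c
      rw [← hw] at h2
      change Ideal.Quotient.mk (M ^ 2) w = Ideal.Quotient.mk (M ^ 2) (r c) at h2
      rw [Ideal.Quotient.eq, hr] at h2
      convert h2 using 1
      ring
  have hker : ∀ x ∈ KaehlerDifferential.ideal A B ^ N, Ψ x = 0 := by
    intro x hx
    have hle : (KaehlerDifferential.ideal A B).map Ψ ≤ M.map (Ideal.Quotient.mk (M ^ N)) := by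
      rw [← KaehlerDifferential.span_range_eq_ideal, Ideal.map_span, Ideal.span_le]
      rintro _ ⟨_, ⟨c, rfl⟩, rfl⟩
      obtain ⟨G, hG, hG'⟩ := hdiff c
      rw [SetLike.mem_coe, hG]
      refine Ideal.mem_map_of_mem _ ?_
      have hm : (∑ i, C (b.coord i (KaehlerDifferential.D A B c)) * X i :
          MvPolynomial (Fin n) B) ∈ M :=
        Ideal.sum_mem _ fun i _ => Ideal.mul_mem_left _ _ (Ideal.subset_span ⟨i, rfl⟩)
      rw [← sub_add_cancel G (∑ i, C (b.coord i (KaehlerDifferential.D A B c)) * X i)]
      exact Ideal.add_mem _ (Ideal.pow_le_self two_ne_zero hG') hm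
    have h1 := Ideal.mem_map_of_mem Ψ hx
    rw [Ideal.map_pow] at h1
    have h2 := Ideal.pow_right_mono hle N h1
    rwa [← Ideal.map_pow, Ideal.map_quotient_self, Ideal.mem_bot] at h2
  choose G hG hG' using fun i => hdiff (z i)
  have hGX : ∀ i, G i - X i ∈ M ^ 2 := fun i => by
    have := hG' i
    simp only [← hb i, Module.Basis.coord_apply, Module.Basis.repr_self, Finsupp.single_apply] at this
    rwa [Finset.sum_eq_single i (fun j _ hj => by simp [Ne.symm hj]) (by simp), if_pos rfl, C_1,
      one_mul] at this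
  have hcomp : ∀ q : MvPolynomial (Fin n) B,
      Ψ (aeval (xi A z) q) = Ideal.Quotient.mk (M ^ N) (aeval G q) := by
    intro q
    induction q using MvPolynomial.induction_on with
    | C c =>
        rw [aeval_C, aeval_C, Algebra.TensorProduct.algebraMap_apply, Algebra.algebraMap_self,
          RingHom.id_apply, hΨ, map_one, mul_one]
        rfl
    | add a c ha hc => simp only [map_add, ha, hc]
    | mul_X q i hq =>
        rw [map_mul, map_mul, hq, aeval_X, map_mul, aeval_X, map_mul, ← hG i]
        rfl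
  let θ₀ : MvPolynomial (Fin n) B →ₐ[B] P := (Ideal.Quotient.mkₐ B (M ^ N)).comp (aeval G)
  have hθ₀ : ∀ q ∈ M ^ N, θ₀ q = 0 := fun q hq => by
    change Ideal.Quotient.mk (M ^ N) (aeval G q) = 0
    rw [Ideal.Quotient.eq_zero_iff_mem, ← sub_add_cancel (aeval G q) q]
    exact Ideal.add_mem _ (Ideal.pow_le_pow_right (Nat.le_succ N) (aeval_sub_mem hGX N q hq)) hq
  let θ : P →ₐ[B] P := Ideal.Quotient.liftₐ (M ^ N) θ₀ hθ₀
  have hsurj : Function.Surjective θ := by
    intro y
    obtain ⟨y, rfl⟩ := Ideal.Quotient.mk_surjective y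
    have : ∀ j, ∃ w : MvPolynomial (Fin n) B, aeval G w - y ∈ M ^ j := by
      intro j
      induction j with
      | zero => exact ⟨0, by simp⟩
      | succ j ih =>
          obtain ⟨w, hw⟩ := ih
          refine ⟨w - (aeval G w - y), ?_⟩
          have := aeval_sub_mem hGX j _ hw
          rw [map_sub (aeval G) w, show aeval G w - aeval G (aeval G w - y) - y =
            -(aeval G (aeval G w - y) - (aeval G w - y)) by ring]
          exact Ideal.neg_mem_iff _ |>.2 this
    obtain ⟨w, hw⟩ := this N
    exact ⟨Ideal.Quotient.mk _ w, Ideal.Quotient.eq.2 hw⟩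
  haveI := finite_trunc (B := B) (n := n) N
  have hinj : Function.Injective θ :=
    OrzechProperty.injective_of_surjective_endomorphism θ.toLinearMap hsurj
  rw [← Ideal.Quotient.eq_zero_iff_mem]
  apply hinj
  rw [map_zero]
  change Ideal.Quotient.mk (M ^ N) (aeval G p) = 0
  rw [← hcomp]
  exact hker _ hp

theorem mem_of_aeval_mem (b : Module.Basis (Fin n) B (KaehlerDifferential A B))
    (hb : ∀ i, b i = KaehlerDifferential.D A B (z i)) {N : ℕ}
    {p : MvPolynomial (Fin n) B} (hp : aeval (xi A z) p ∈ KaehlerDifferential.ideal A B ^ N) :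
    p ∈ idealOfVars (Fin n) B ^ N := by
  match N with
  | 0 => simp
  | 1 =>
      rw [pow_one] at hp ⊢
      have hμ : ∀ q : MvPolynomial (Fin n) B,
          Algebra.TensorProduct.lmul' A (aeval (xi A z) q) = constantCoeff q := by
        intro q
        induction q using MvPolynomial.induction_on with
        | C c => simp
        | add a c ha hc => simp only [map_add, ha, hc]
        | mul_X q i hq => simp [xi, map_sub]
      rw [KaehlerDifferential.ideal, RingHom.mem_ker] at hp
      have h0 : constantCoeff p = 0 := (hμ p).symm.trans hp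
      rw [← pow_one (idealOfVars (Fin n) B), mem_pow_idealOfVars_iff']
      intro d hd
      rw [(Finsupp.degree_eq_zero_iff d).1 (Nat.lt_one_iff.1 hd)]
      exact h0
  | N + 2 => exact mem_of_aeval_mem_of_two_le b hb (by omega) hp

theorem coeff_binom (p q : Fin n → ℕ) :
    coeff (Finsupp.equivFunOnFinite.symm p) (∏ i, (C (z i) + X i) ^ q i) =
      ((∏ i, Nat.choose (q i) (p i) : ℕ) : B) * ∏ i, z i ^ (q i - p i) := by
  classical
  have hterm : ∀ i, (C (z i) + X i : MvPolynomial (Fin n) B) ^ q i =
      ∑ j ∈ Finset.range (q i + 1),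
        monomial (Finsupp.single i j) ((Nat.choose (q i) j : B) * z i ^ (q i - j)) := fun i => by
    rw [add_comm, add_pow]
    refine Finset.sum_congr rfl fun j _ => ?_
    rw [← C_pow, X_pow_eq_monomial, ← map_natCast (C : B →+* MvPolynomial (Fin n) B), mul_assoc,
      ← map_mul, mul_comm, C_mul_monomial, mul_one, mul_comm]
  have hmono : ∀ f : Fin n → ℕ,
      ∏ i, monomial (Finsupp.single i (f i)) ((Nat.choose (q i) (f i) : B) * z i ^ (q i - f i)) =
        monomial (Finsupp.equivFunOnFinite.symm f)
          (∏ i, ((Nat.choose (q i) (f i) : B) * z i ^ (q i - f i))) := fun f => by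
    rw [← monomial_sum_prod]
    congr 2
    exact Finsupp.ext fun j => by simp [Finsupp.single_apply]
  simp_rw [hterm, Finset.prod_univ_sum, hmono, coeff_sum, coeff_monomial,
    EquivLike.apply_eq_iff_eq, Finset.sum_ite_eq', Fintype.mem_piFinset, Finset.mem_range]
  rw [Finset.prod_mul_distrib, Nat.cast_prod]
  split_ifs with h
  · rfl
  · push Not at h
    obtain ⟨i, hi⟩ := h
    rw [Finset.prod_eq_zero (Finset.mem_univ i) (by simp [Nat.choose_eq_zero_of_lt hi]), zero_mul]

/-- Existence of the divided power operators. -/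
theorem exists_operator (b : Module.Basis (Fin n) B (KaehlerDifferential A B))
    (hb : ∀ i, b i = KaehlerDifferential.D A B (z i)) (p : Fin n → ℕ) :
    ∃ D : B →ₗ[A] B, Diff16.IsDiffOpLE A B B B (∑ i, p i) D ∧ ∀ q : Fin n → ℕ,
      D (∏ i, z i ^ q i) =
        ((∏ i, Nat.choose (q i) (p i) : ℕ) : B) * ∏ i, z i ^ (q i - p i) := by
  classical
  have hspan := span_eq_top_of_basis b hb
  set k := ∑ i, p i with hk
  set I := KaehlerDifferential.ideal A B ^ (k + 1) with hI
  let Φ : MvPolynomial (Fin n) B →ₗ[B] (B ⊗[A] B) ⧸ I :=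
    ((Ideal.Quotient.mkₐ B I).comp (aeval (xi A z))).toLinearMap
  have hΦ : Function.Surjective Φ := fun y => by
    obtain ⟨y, rfl⟩ := Ideal.Quotient.mk_surjective y
    obtain ⟨w, hw⟩ := exists_poly hspan (k + 1) y
    exact ⟨w, (Ideal.Quotient.eq.2 hw).symm⟩
  have hdeg : Finsupp.degree (Finsupp.equivFunOnFinite.symm p) = k := by
    simp [Finsupp.degree_eq_sum, hk]
  have hker : LinearMap.ker Φ ≤ LinearMap.ker (lcoeff B (Finsupp.equivFunOnFinite.symm p)) := by
    intro w hw
    have := mem_of_aeval_mem b hb (Ideal.Quotient.eq_zero_iff_mem.1 hw)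
    exact (mem_pow_idealOfVars_iff' _ _).1 this _ (by omega)
  let χ : (B ⊗[A] B) ⧸ I →ₗ[B] B :=
    (LinearMap.ker Φ).liftQ _ hker ∘ₗ (Φ.quotKerEquivOfSurjective hΦ).symm.toLinearMap
  have hχ : ∀ w, χ (Φ w) = coeff (Finsupp.equivFunOnFinite.symm p) w := fun w => by
    have : (Φ.quotKerEquivOfSurjective hΦ).symm (Φ w) = Submodule.Quotient.mk w := by
      rw [LinearEquiv.symm_apply_eq]
      rfl
    change (LinearMap.ker Φ).liftQ _ hker ((Φ.quotKerEquivOfSurjective hΦ).symm (Φ w)) = _
    rw [this]
    rfl
  let D : B →ₗ[A] B := χ.restrictScalars A ∘ₗ (Ideal.Quotient.mkₐ A I).toLinearMap ∘ₗ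
    (Algebra.TensorProduct.includeRight : B →ₐ[A] B ⊗[A] B).toLinearMap
  have hlin : ∀ x, Diff16.linearize A B B B D x = χ (Ideal.Quotient.mk I x) := by
    intro x
    induction x using TensorProduct.induction_on with
    | zero => simp
    | tmul c e =>
        rw [Basic.linearize_tmul]
        change c • χ (Ideal.Quotient.mk I ((1 : B) ⊗ₜ[A] e)) = _
        rw [← map_smul, ← Ideal.Quotient.mkₐ_eq_mk B, ← map_smul, TensorProduct.smul_tmul',
          smul_eq_mul, mul_one]
    | add u v hu hv => simp only [map_add, hu, hv]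
  refine ⟨D, Basic.of_linearize_vanish fun x hx => ?_, fun q => ?_⟩
  · rw [hlin, Ideal.Quotient.eq_zero_iff_mem.2 hx, map_zero]
  · have hval : (Algebra.TensorProduct.includeRight : B →ₐ[A] B ⊗[A] B) (∏ i, z i ^ q i) =
        aeval (xi A z) (∏ i, (C (z i) + X i) ^ q i) := by
      simp only [map_prod, map_pow, map_add, aeval_C, aeval_X]
      refine Finset.prod_congr rfl fun i _ => ?_
      congr 1
      simp [xi]
    rw [← coeff_binom]
    change χ (Ideal.Quotient.mk I ((Algebra.TensorProduct.includeRight : B →ₐ[A] B ⊗[A] B)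
      (∏ i, z i ^ q i))) = _
    rw [hval]
    exact hχ _

end Groth.Agent.Lib.DiffOp.Coordinates
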