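import Groth.Agent.Lib.DiffOp.Basic
import Mathlib.RingTheory.Etale.Basic
import Mathlib.RingTheory.Smooth.Basic
import Mathlib.RingTheory.Unramified.Basic

/-! Extension of differential operators along formally étale ring maps. -/

set_option autoImplicit false
set_option linter.unusedSectionVars false

universe u v

namespace Groth.Agent.Lib.DiffOp.Etale

open Diff16 Groth.Agent.Lib.DiffOp.Basic
open scoped TensorProduct

theorem exists_lift_ringHom {S S' Q : Type u} [CommRing S] [CommRing S'] [Algebra S S']
    [CommRing Q] [Algebra.FormallySmooth S S'] (i : S →+* Q) (p : Q →+* S')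
    (hp : Function.Surjective p) (hn : IsNilpotent (RingHom.ker p))
    (hc : p.comp i = algebraMap S S') :
    ∃ r : S' →+* Q, (∀ x, p (r x) = x) ∧ ∀ s, r (algebraMap S S' s) = i s := by
  letI := i.toAlgebra
  let g : Q →ₐ[S] S' := { p with commutes' := fun s => RingHom.congr_fun hc s }
  let r := Algebra.FormallySmooth.liftOfSurjective (AlgHom.id S S') g hp hn
  exact ⟨r.toRingHom, fun x => Algebra.FormallySmooth.liftOfSurjective_apply _ g hp hn x,
    fun s => r.commutes s⟩

section

variable {R S S' : Type u} [CommRing R] [CommRing S] [CommRing S']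
  [Algebra R S] [Algebra R S'] [Algebra S S'] [IsScalarTower R S S']

variable {M' N' : Type v} [AddCommGroup M'] [Module R M'] [Module S' M'] [IsScalarTower R S' M']
  [AddCommGroup N'] [Module R N'] [Module S' N'] [IsScalarTower R S' N']

theorem commutator_comm (E : M' →ₗ[R] N') (b c : S') :
    commutator R S' M' N' (commutator R S' M' N' E b) c =
      commutator R S' M' N' (commutator R S' M' N' E c) b := by
  ext m
  simp only [commutator_apply, smul_sub, smul_comm b c]
  abel

/-- An operator of finite order which commutes with `S` is linear, if `S'` is unramified over `S`. -/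
theorem linear_of_commutes [Algebra.FormallyUnramified S S'] {n : ℕ} {E : M' →ₗ[R] N'}
    (hE : IsDiffOpLE R S' M' N' n E)
    (hS : ∀ s : S, commutator R S' M' N' E (algebraMap S S' s) = 0) :
    IsDiffOpLE R S' M' N' 0 E := by
  induction n generalizing E with
  | zero => exact hE
  | succ n ih =>
      have h1 : ∀ b, IsDiffOpLE R S' M' N' 0 (commutator R S' M' N' E b) := by
        intro b
        refine ih (hE b) fun s => ?_
        rw [commutator_comm, hS, commutator_zero]
      letI : Module S M' := Module.compHom M' (algebraMap S S')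
      letI : Module S N' := Module.compHom N' (algebraMap S S')
      haveI : IsScalarTower S S' M' := IsScalarTower.of_algebraMap_smul fun _ _ => rfl
      haveI : IsScalarTower S S' N' := IsScalarTower.of_algebraMap_smul fun _ _ => rfl
      let δ' : S' →+ (M' →ₗ[S'] N') :=
        AddMonoidHom.mk' (fun b => toLinear (h1 b)) (fun b c => LinearMap.ext fun m =>
          LinearMap.congr_fun (commutator_add_scalar E b c) m)
      have leib : ∀ b c, δ' (b * c) = b • δ' c + c • δ' b := by
        intro b c
        refine LinearMap.ext fun m => ?_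
        have := LinearMap.congr_fun (commutator_mul_scalar E b c) m
        simp only [LinearMap.add_apply, LinearMap.comp_apply, LinearMap.smul_apply,
          LinearMap.restrictScalars_apply, LinearMap.lsmul_apply] at this
        rw [h1 b c m] at this
        exact this.trans (add_comm _ _)
      have hz : ∀ s : S, δ' (algebraMap S S' s) = 0 := fun s => LinearMap.ext fun m =>
        LinearMap.congr_fun (hS s) m
      let δlin : S' →ₗ[S] (M' →ₗ[S'] N') :=
        { δ' with
          map_smul' := fun s b => by
            change δ' (s • b) = s • δ' b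
            rw [Algebra.smul_def, leib, hz, smul_zero, add_zero, algebraMap_smul] }
      let δ : Derivation S S' (M' →ₗ[S'] N') := Derivation.mk' δlin leib
      have hδ : ∀ b, δ b = 0 := by
        intro b
        rw [← δ.liftKaehlerDifferential_comp_D b,
          Subsingleton.elim (KaehlerDifferential.D S S' b) 0, map_zero]
      rw [zero_iff]
      intro b
      exact LinearMap.ext fun m => LinearMap.congr_fun (hδ b) m

end

section

variable {R S S' : Type u} [CommRing R] [CommRing S] [CommRing S']
  [Algebra R S] [Algebra R S'] [Algebra S S'] [IsScalarTower R S S']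

variable {M N' : Type u} [AddCommGroup M] [Module S M] [Module R M] [IsScalarTower R S M]
  [AddCommGroup N'] [Module R N'] [Module S' N'] [IsScalarTower R S' N']

theorem eq_zero_of_vanish [Algebra.FormallyUnramified S S'] {n : ℕ}
    {E : S' ⊗[S] M →ₗ[R] N'} (hE : IsDiffOpLE R S' (S' ⊗[S] M) N' n E)
    (h0 : ∀ m : M, E (1 ⊗ₜ m) = 0) : E = 0 := by
  have lin0 : ∀ {F : S' ⊗[S] M →ₗ[R] N'}, IsDiffOpLE R S' (S' ⊗[S] M) N' 0 F →
      (∀ m : M, F (1 ⊗ₜ m) = 0) → F = 0 := by
    intro F hF hF0
    refine LinearMap.ext fun x => ?_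
    induction x using TensorProduct.induction_on with
    | zero => simp
    | tmul b m =>
        have := hF b (1 ⊗ₜ m)
        rw [TensorProduct.smul_tmul', smul_eq_mul, mul_one, hF0, smul_zero] at this
        simpa using this
    | add x y hx hy =>
        rw [map_add, hx, hy]
        simp
  induction n generalizing E with
  | zero => exact lin0 hE h0
  | succ n ih =>
      refine lin0 (linear_of_commutes hE fun s : S => ih (hE _) fun m => ?_) h0
      rw [commutator_apply, h0, smul_zero, TensorProduct.smul_tmul', smul_eq_mul, mul_one,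
        show (algebraMap S S' s : S') = s • (1 : S') from (Algebra.algebraMap_eq_smul_one s),
        TensorProduct.smul_tmul, h0, sub_zero]

theorem ext_of_formallyUnramified [Algebra.FormallyUnramified S S'] {n : ℕ}
    {E F : S' ⊗[S] M →ₗ[R] N'} (hE : IsDiffOpLE R S' (S' ⊗[S] M) N' n E)
    (hF : IsDiffOpLE R S' (S' ⊗[S] M) N' n F)
    (h : ∀ m : M, E (1 ⊗ₜ m) = F (1 ⊗ₜ m)) : E = F := by
  have hsub : IsDiffOpLE R S' (S' ⊗[S] M) N' n (E - F) := by
    rw [sub_eq_add_neg, ← neg_one_smul S' F]
    exact Basic.add hE (Basic.smul _ hF)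
  exact sub_eq_zero.1 (eq_zero_of_vanish hsub fun m => by simp [h m])

variable [Module S N'] [IsScalarTower S S' N'] [IsScalarTower R S N']

/-- The action of `S' ⊗[R] S` on maps `M → N'`, evaluated at `D`. -/
noncomputable def act (D : M →ₗ[R] N') : S' ⊗[R] S →ₗ[R] (M →ₗ[R] N') :=
  TensorProduct.lift
    (LinearMap.mk₂ R (fun a b => a • (D ∘ₗ (LinearMap.lsmul S M b).restrictScalars R))
      (fun a a' b => add_smul _ _ _) (fun c a b => smul_assoc _ _ _)
      (fun a b b' => by ext m; simp [add_smul])
      (fun c a b => by ext m; simp [smul_assoc, smul_comm c a]))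

theorem act_tmul (D : M →ₗ[R] N') (a : S') (b : S) (m : M) :
    act D (a ⊗ₜ b) m = a • D (b • m) := rfl

theorem act_mul_right (D : M →ₗ[R] N') (x : S' ⊗[R] S) (s : S) (m : M) :
    act D (x * (1 ⊗ₜ s)) m = act D x (s • m) := by
  induction x using TensorProduct.induction_on with
  | zero => simp
  | tmul a b => simp [Algebra.TensorProduct.tmul_mul_tmul, act_tmul, mul_smul]
  | add x y hx hy => simp [add_mul, map_add, hx, hy]

theorem act_mul_left (D : M →ₗ[R] N') (x : S' ⊗[R] S) (c : S') (m : M) :
    act D ((c ⊗ₜ 1) * x) m = c • act D x m := by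
  induction x using TensorProduct.induction_on with
  | zero => simp
  | tmul a b => simp [Algebra.TensorProduct.tmul_mul_tmul, act_tmul, mul_smul]
  | add x y hx hy => simp [mul_add, map_add, hx, hy, smul_add]

variable (R S S') in
/-- The kernel of `S' ⊗[R] S → S'`. -/
noncomputable def J : Ideal (S' ⊗[R] S) :=
  Ideal.span (Set.range fun s : S => (1 : S') ⊗ₜ[R] s - algebraMap S S' s ⊗ₜ[R] (1 : S))

theorem act_mul_gen (D : M →ₗ[R] N') (x : S' ⊗[R] S) (s : S) :
    act D (x * ((1 : S') ⊗ₜ[R] s - algebraMap S S' s ⊗ₜ[R] (1 : S))) =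
      act (commutator R S M N' D s) x := by
  induction x using TensorProduct.induction_on with
  | zero => simp
  | tmul a b =>
      ext m
      simp [mul_sub, Algebra.TensorProduct.tmul_mul_tmul, act_tmul, commutator_apply, smul_sub,
        mul_smul, algebraMap_smul, smul_comm b s]
  | add x y hx hy => simp [add_mul, map_add, hx, hy]

theorem act_vanish {n : ℕ} {D : M →ₗ[R] N'} (hD : IsDiffOpLE R S M N' n D) :
    ∀ x ∈ J R S S' ^ (n + 1), act D x = 0 := by
  have key : ∀ (n : ℕ) (D : M →ₗ[R] N'),
      (∀ s, ∀ x ∈ J R S S' ^ n, act (commutator R S M N' D s) x = 0) →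
      ∀ x ∈ J R S S' ^ (n + 1), act D x = 0 := by
    intro n D h x hx
    rw [pow_succ] at hx
    refine Submodule.mul_induction_on hx (fun r hr g hg => ?_) (fun a b ha hb => by
      rw [map_add, ha, hb, add_zero])
    induction hg using Submodule.span_induction generalizing r with
    | mem g hg =>
        obtain ⟨s, rfl⟩ := hg
        rw [act_mul_gen]
        exact h s r hr
    | zero => simp
    | add g g' _ _ hg hg' => rw [mul_add, map_add, hg r hr, hg' r hr, add_zero]
    | smul c g _ hg =>
        rw [smul_eq_mul, ← mul_assoc]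
        exact hg (r * c) (Ideal.mul_mem_right _ _ hr)
  induction n generalizing D with
  | zero =>
      refine key 0 D fun s x _ => ?_
      rw [zero_iff.1 hD s]
      induction x using TensorProduct.induction_on with
      | zero => simp
      | tmul a b => ext m; simp [act_tmul]
      | add x y hx hy => simp [map_add, hx, hy]
  | succ n ih => exact key (n + 1) D fun s => ih (hD s)

variable (R S S') in
/-- Multiplication `S' ⊗[R] S → S'`. -/
noncomputable def mu : S' ⊗[R] S →ₐ[R] S' :=
  Algebra.TensorProduct.lift (AlgHom.id R S') (IsScalarTower.toAlgHom R S S')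
    (fun _ _ => Commute.all _ _)

theorem mu_tmul (a : S') (b : S) : mu R S S' (a ⊗ₜ b) = a * algebraMap S S' b :=
  Algebra.TensorProduct.lift_tmul _ _ _ a b

theorem mem_J_of_mu_eq_zero {x : S' ⊗[R] S} (hx : mu R S S' x = 0) : x ∈ J R S S' := by
  have : ∀ y : S' ⊗[R] S, y - mu R S S' y ⊗ₜ[R] (1 : S) ∈ J R S S' := by
    intro y
    induction y using TensorProduct.induction_on with
    | zero => simp
    | tmul a b =>
        have h : a ⊗ₜ[R] b - mu R S S' (a ⊗ₜ b) ⊗ₜ[R] (1 : S) =
            (a ⊗ₜ[R] (1 : S)) * ((1 : S') ⊗ₜ[R] b - algebraMap S S' b ⊗ₜ[R] (1 : S)) := by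
          simp [mu, mul_sub, Algebra.TensorProduct.tmul_mul_tmul]
        rw [h]
        exact Ideal.mul_mem_left _ _ (Ideal.subset_span ⟨b, rfl⟩)
    | add y z hy hz =>
        rw [map_add, TensorProduct.add_tmul, add_sub_add_comm]
        exact add_mem hy hz
  simpa [hx] using this x

theorem exists_extension [Algebra.FormallySmooth S S'] {k : ℕ} {D : M →ₗ[R] N'}
    (hD : IsDiffOpLE R S M N' k D) :
    ∃ D' : S' ⊗[S] M →ₗ[R] N', IsDiffOpLE R S' (S' ⊗[S] M) N' k D' ∧
      ∀ m, D' (1 ⊗ₜ m) = D m := by
  let T := S' ⊗[R] S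
  let I : Ideal T := J R S S' ^ (k + 1)
  let mk := Ideal.Quotient.mk I
  have hJker : J R S S' ≤ RingHom.ker (mu R S S').toRingHom := by
    rw [J, Ideal.span_le]
    rintro _ ⟨s, rfl⟩
    simp [mu, RingHom.mem_ker]
  have hIker : ∀ x ∈ I, (mu R S S').toRingHom x = 0 := fun x hx =>
    RingHom.mem_ker.1 (hJker (Ideal.pow_le_self (Nat.succ_ne_zero k) hx))
  let p : T ⧸ I →+* S' := Ideal.Quotient.lift I (mu R S S').toRingHom hIker
  let i : S →+* T ⧸ I := mk.comp
    (Algebra.TensorProduct.includeRight : S →ₐ[R] T).toRingHom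
  have hpsurj : Function.Surjective p := fun a => ⟨mk (a ⊗ₜ 1), (mu_tmul a (1 : S)).trans (by simp)⟩
  have hK : RingHom.ker p ≤ (J R S S').map mk := by
    intro q hq
    obtain ⟨x, rfl⟩ := Ideal.Quotient.mk_surjective q
    exact Ideal.mem_map_of_mem _ (mem_J_of_mu_eq_zero hq)
  have hKpow : ((J R S S').map mk) ^ (k + 1) = ⊥ := by
    rw [← Ideal.map_pow]
    exact Ideal.map_quotient_self I
  obtain ⟨r, hr, hri⟩ := exists_lift_ringHom i p hpsurj
    ⟨k + 1, le_bot_iff.1 (hKpow ▸ Ideal.pow_right_mono hK (k + 1))⟩
    (RingHom.ext fun s => (mu_tmul (1 : S') s).trans (one_mul _))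
  let Ψ : T ⧸ I →+ (M →ₗ[R] N') :=
    QuotientAddGroup.lift I.toAddSubgroup (act D).toAddMonoidHom
      (fun x hx => act_vanish hD x hx)
  have hΨ : ∀ x, Ψ (mk x) = act D x := fun _ => rfl
  have hΨr : ∀ q s m, Ψ (q * i s) m = Ψ q (s • m) := by
    intro q s m
    obtain ⟨x, rfl⟩ := Ideal.Quotient.mk_surjective q
    exact act_mul_right D x s m
  have hΨl : ∀ q c m, Ψ (mk (c ⊗ₜ 1) * q) m = c • Ψ q m := by
    intro q c m
    obtain ⟨x, rfl⟩ := Ideal.Quotient.mk_surjective q
    exact act_mul_left D x c m
  let f : T ⧸ I → (S' →+ M →+ N') := fun q =>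
    AddMonoidHom.mk' (fun a => (Ψ (r a * q)).toAddMonoidHom)
      (fun a b => by ext m; simp [map_add, add_mul])
  have hf : ∀ (q : T ⧸ I) (s : S) (a : S') (m : M), f q (s • a) m = f q a (s • m) := by
    intro q s a m
    change Ψ (r (s • a) * q) m = Ψ (r a * q) (s • m)
    rw [Algebra.smul_def, r.map_mul, hri, mul_assoc, mul_comm, hΨr]
  let E₀ : T ⧸ I → (S' ⊗[S] M →+ N') := fun q => TensorProduct.liftAddHom (f q) (hf q)
  have hE₀ : ∀ q a m, E₀ q (a ⊗ₜ m) = Ψ (r a * q) m := fun q a m => rfl
  have hrR : ∀ (c : R) (a : S'), r (c • a) = mk (algebraMap R S' c ⊗ₜ 1) * r a := by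
    intro c a
    rw [Algebra.smul_def, r.map_mul, IsScalarTower.algebraMap_apply R S S', hri]
    congr 1
    change mk ((1 : S') ⊗ₜ algebraMap R S c) = mk (algebraMap S S' (algebraMap R S c) ⊗ₜ 1)
    rw [← IsScalarTower.algebraMap_apply R S S', Algebra.algebraMap_eq_smul_one,
      Algebra.algebraMap_eq_smul_one, TensorProduct.smul_tmul]
  let E : T ⧸ I → (S' ⊗[S] M →ₗ[R] N') := fun q =>
    { E₀ q with
      map_smul' := fun c x => by
        change E₀ q (c • x) = c • E₀ q x
        induction x using TensorProduct.induction_on with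
        | zero => simp
        | tmul a m =>
            rw [TensorProduct.smul_tmul', hE₀, hE₀, hrR, mul_assoc, hΨl, algebraMap_smul]
        | add x y hx hy => simp [smul_add, map_add, hx, hy] }
  have hE : ∀ q a m, E q (a ⊗ₜ m) = Ψ (r a * q) m := fun q a m => rfl
  have hcomm : ∀ q b, commutator R S' (S' ⊗[S] M) N' (E q) b =
      E ((r b - mk (b ⊗ₜ 1)) * q) := by
    intro q b
    refine LinearMap.ext fun x => ?_
    induction x using TensorProduct.induction_on with
    | zero => simp
    | tmul a m =>
        rw [commutator_apply, TensorProduct.smul_tmul', smul_eq_mul, hE, hE, hE, ← hΨl,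
          r.map_mul]
        rw [show r a * ((r b - mk (b ⊗ₜ 1)) * q) =
          r b * r a * q - mk (b ⊗ₜ 1) * (r a * q) by ring]
        simp
    | add x y hx hy => simp only [map_add, hx, hy]
  have hker : ∀ b, r b - mk (b ⊗ₜ 1) ∈ RingHom.ker p := fun b => by
    rw [RingHom.mem_ker, map_sub, hr, show p (mk (b ⊗ₜ 1)) = b from
      (mu_tmul b (1 : S)).trans (by simp), sub_self]
  have horder : ∀ (n j : ℕ), j + n = k → ∀ q ∈ ((J R S S').map mk) ^ j,
      IsDiffOpLE R S' (S' ⊗[S] M) N' n (E q) := by
    intro n
    induction n with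
    | zero =>
        intro j hj q hq
        rw [zero_iff]
        intro b
        rw [hcomm]
        have hz : (r b - mk (b ⊗ₜ 1)) * q ∈ ((J R S S').map mk) ^ (j + 1) := by
          exact (Submodule.pow_succ (R := T ⧸ I) (A := T ⧸ I) ((J R S S').map mk) (n := j)).symm ▸
            mul_comm q _ ▸ Ideal.mul_mem_mul hq (hK (hker b))
        rw [show j + 1 = k + 1 by omega, hKpow, Ideal.mem_bot] at hz
        rw [hz]
        refine LinearMap.ext fun x => ?_
        induction x using TensorProduct.induction_on with
        | zero => simp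
        | tmul a m => simp [hE]
        | add x y hx hy =>
            simp only [map_add, hx, hy]
    | succ n ih =>
        intro j hj q hq b
        rw [hcomm]
        refine ih (j + 1) (by omega) _ ?_
        exact (Submodule.pow_succ (R := T ⧸ I) (A := T ⧸ I) ((J R S S').map mk) (n := j)).symm ▸
          mul_comm q _ ▸ Ideal.mul_mem_mul hq (hK (hker b))
  refine ⟨E 1, horder k 0 (zero_add k) 1 (by rw [Submodule.pow_zero]; exact ⟨1, one_smul _ _⟩), fun m => ?_⟩
  rw [hE, map_one, mul_one, ← map_one mk, hΨ, Algebra.TensorProduct.one_def, act_tmul, one_smul,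
    one_smul]

end

end Groth.Agent.Lib.DiffOp.Etale
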